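import Groth.Agent.H8Lim.NoetherianModel
import Groth.Agent.H8Lim.IdealDescent
import Groth.Prelude.Def_Neron
import Groth.Prelude.Def_FGA
import Groth.Agent.RelVALib.ChowPn

/-!
# Projective schemes over an affine base descend to finitely generated subrings
-/

set_option autoImplicit false
set_option linter.style.haveILetI false
set_option backward.isDefEq.respectTransparency.types false
set_option maxHeartbeats 1000000

universe u

open CategoryTheory CategoryTheory.Limits AlgebraicGeometry Opposite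
open Groth.Agent.H8Lim

noncomputable section

namespace Groth.Agent.ProjDesc28

theorem projMap_comp (n : ℕ) {T S W : Scheme.{u}} (φ : T ⟶ S) (χ : S ⟶ W) :
    FGA.projMap n φ ≫ FGA.projMap n χ = FGA.projMap n (φ ≫ χ) := by
  apply pullback.hom_ext
  · exact (Category.assoc _ _ _).trans ((congrArg (FGA.projMap n φ ≫ ·) ((pullback.lift_fst _ _ _).trans (Category.comp_id _))).trans
      (((pullback.lift_fst _ _ _).trans (Category.comp_id _)).trans ((pullback.lift_fst _ _ _).trans (Category.comp_id _)).symm))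
  · exact (Category.assoc _ _ _).trans ((congrArg (FGA.projMap n φ ≫ ·) (pullback.lift_snd _ _ _)).trans
      ((Category.assoc _ _ _).symm.trans ((congrArg (· ≫ χ) (pullback.lift_snd _ _ _)).trans ((Category.assoc _ _ _).trans (pullback.lift_snd _ _ _).symm))))

theorem isPullback_projMap (n : ℕ) {T S : Scheme.{u}} (φ : T ⟶ S) :
    IsPullback (FGA.projMap n φ) (CohB1.ProjSpaceOver.toBase n T) (CohB1.ProjSpaceOver.toBase n S) φ := by
  have h1 : FGA.projMap n φ ≫ pullback.fst _ _ = pullback.fst (CohB1.ProjSpace.toSpec n (ULift.{u} ℤ)) (specULiftZIsTerminal.from T) :=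
    (pullback.lift_fst _ _ _).trans (Category.comp_id _)
  have h2 : FGA.projMap n φ ≫ CohB1.ProjSpaceOver.toBase n S = CohB1.ProjSpaceOver.toBase n T ≫ φ :=
    pullback.lift_snd _ _ _
  refine IsPullback.of_right ?_ h2
    (IsPullback.of_hasPullback (CohB1.ProjSpace.toSpec n (ULift.{u} ℤ)) (specULiftZIsTerminal.from S))
  rw [h1, specULiftZIsTerminal.hom_ext (φ ≫ specULiftZIsTerminal.from S) (specULiftZIsTerminal.from T)]
  exact IsPullback.of_hasPullback _ _

/-- A projective scheme of finite presentation comes from any subring containing a suitable finite set. -/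
theorem exists_finset {R : Type u} [CommRing R] [IsNoetherianRing R] {X : Scheme.{u}} (p : X ⟶ Spec (CommRingCat.of R))
    (hp : Neron.IsProjectiveOver R (Over.mk p)) :
    ∃ s : Finset R, ∀ (R' : Type u) [CommRing R'] (φ : R' →+* R) (ψ : fgSub R s →+* R'),
      φ.comp ψ = (fgSub R s).val.toRingHom →
        ∃ (X' : Scheme.{u}) (p' : X' ⟶ Spec (CommRingCat.of R')),
          Neron.IsProjectiveOver R' (Over.mk p') ∧
          ∃ e : X ≅ pullback p' (Spec.map (CommRingCat.ofHom φ)),
            e.hom ≫ pullback.snd p' (Spec.map (CommRingCat.ofHom φ)) = p := by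
  obtain ⟨n, i, hi, hip⟩ := hp
  change X ⟶ _ at i
  change i ≫ _ = p at hip
  haveI : IsClosedImmersion i := hi
  let D := fgSpecDiagram R
  let c := fgSpecCone R
  let i₀ : (Finset R)ᵒᵖ := op ∅
  let f₀ : CohB1.ProjSpaceOver n (D.obj i₀) ⟶ D.obj i₀ := CohB1.ProjSpaceOver.toBase n (D.obj i₀)
  let q : CohB1.ProjSpaceOver n c.pt ⟶ CohB1.ProjSpaceOver n (D.obj i₀) := FGA.projMap n (c.π.app i₀)
  have sq : IsPullback q (CohB1.ProjSpaceOver.toBase n c.pt) f₀ (c.π.app i₀) := isPullback_projMap n _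
  haveI : IsProper f₀ := RelVALib.isProper_toBase n _
  haveI : CompactSpace (CohB1.ProjSpaceOver n (D.obj i₀)) := QuasiCompact.compactSpace_of_compactSpace f₀
  haveI : QuasiSeparatedSpace (CohB1.ProjSpaceOver n (D.obj i₀)) := quasiSeparatedSpace_of_quasiSeparated f₀
  haveI : ∀ {a b : Over i₀} (f : a ⟶ b), IsAffineHom ((stage D f₀).map f) := fun f => inferInstance
  haveI : IsLocallyNoetherian c.pt := inferInstanceAs (IsLocallyNoetherian (Spec (CommRingCat.of R)))
  haveI : IsProper (CohB1.ProjSpaceOver.toBase n c.pt) := RelVALib.isProper_toBase n _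
  haveI : IsLocallyNoetherian (CohB1.ProjSpaceOver n c.pt) :=
    LocallyOfFiniteType.isLocallyNoetherian (CohB1.ProjSpaceOver.toBase n c.pt)
  obtain ⟨j, Jj, -, hJj⟩ := exists_stage_idealSheaf
    (isLimitStageCone f₀ q (CohB1.ProjSpaceOver.toBase n c.pt) sq (isLimitFgSpecCone R))
    (i.ker : (CohB1.ProjSpaceOver n c.pt).IdealSheafData) fun U => by
      haveI : IsNoetherianRing Γ(CohB1.ProjSpaceOver n c.pt, U.1) :=
        IsLocallyNoetherian.component_noetherian (X := CohB1.ProjSpaceOver n c.pt) U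
      exact (isNoetherianRing_iff_ideal_fg _).1 this _
  refine ⟨j.left.unop, fun R' _ φ ψ hψ => ?_⟩
  let T : Scheme.{u} := Spec (CommRingCat.of R')
  let gφ : c.pt ⟶ T := Spec.map (CommRingCat.ofHom φ)
  let gψ : T ⟶ D.obj j.left := Spec.map (CommRingCat.ofHom ψ)
  have hg : gφ ≫ gψ = c.π.app j.left := by
    show Spec.map (CommRingCat.ofHom φ) ≫ Spec.map (CommRingCat.ofHom ψ) = _
    rw [← Spec.map_comp, ← CommRingCat.ofHom_comp, hψ]
    rfl
  let v : CohB1.ProjSpaceOver n T ⟶ (stage D f₀).obj j :=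
    (isPullback_stage D f₀ j).lift (FGA.projMap n (gψ ≫ D.map j.hom)) (CohB1.ProjSpaceOver.toBase n T ≫ gψ)
      (by rw [Category.assoc]; exact (isPullback_projMap n _).w)
  let w : CohB1.ProjSpaceOver n c.pt ⟶ CohB1.ProjSpaceOver n T := FGA.projMap n gφ
  have hwv : w ≫ v = stageProj f₀ c q (CohB1.ProjSpaceOver.toBase n c.pt) sq j := by
    apply (isPullback_stage D f₀ j).hom_ext
    · rw [Category.assoc, (isPullback_stage D f₀ j).lift_fst, stageProj_fst, projMap_comp, ← Category.assoc, hg,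
        show c.π.app j.left ≫ D.map j.hom = c.π.app i₀ from c.w j.hom]
    · rw [Category.assoc, (isPullback_stage D f₀ j).lift_snd, stageProj_snd, ← Category.assoc,
        (isPullback_projMap n gφ).w, Category.assoc, hg]
  let J' := Jj.comap v
  let p' : J'.subscheme ⟶ T := J'.subschemeι ≫ CohB1.ProjSpaceOver.toBase n T
  refine ⟨J'.subscheme, p', ⟨n, J'.subschemeι, inferInstance, rfl⟩, ?_⟩
  have hk : (pullback.fst w J'.subschemeι).ker = i.ker := by
    rw [Scheme.IdealSheafData.ker_fst_of_isClosedImmersion, Scheme.IdealSheafData.ker_subschemeι,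
      ← Scheme.IdealSheafData.comap_comp, hwv]
    exact hJj
  haveI := @IsClosedImmersion.isIso_lift _ _ _ (pullback.fst w J'.subschemeι) i inferInstance hi hk
  have sq' : IsPullback (pullback.snd w J'.subschemeι)
      (pullback.fst w J'.subschemeι ≫ CohB1.ProjSpaceOver.toBase n c.pt) p' gφ :=
    (IsPullback.of_hasPullback w J'.subschemeι).flip.paste_vert (isPullback_projMap n gφ)
  refine ⟨asIso (IsClosedImmersion.lift (pullback.fst w J'.subschemeι) i hk.le) ≪≫ sq'.isoPullback, ?_⟩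
  show (IsClosedImmersion.lift (pullback.fst w J'.subschemeι) i hk.le ≫ sq'.isoPullback.hom) ≫
    pullback.snd p' gφ = p
  rw [Category.assoc, IsPullback.isoPullback_hom_snd, IsClosedImmersion.lift_fac_assoc, ← hip]
  rfl

variable {OK OL K L : Type u} [CommRing OK] [IsDomain OK] [IsDiscreteValuationRing OK]
    [CommRing OL] [IsDomain OL] [IsDiscreteValuationRing OL] [Field K] [Field L]
    [Algebra OK K] [Algebra OL L] [IsFractionRing OL L]
    [Algebra OK OL] [Algebra K L] [Algebra OK L] [IsScalarTower OK OL L] [IsScalarTower OK K L]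

/-- The trace of a dominating discrete valuation ring on an intermediate field. -/
theorem isDiscreteValuationRing_inf (hinj : Function.Injective (algebraMap OK OL))
    (hloc : IsLocalHom (algebraMap OK OL)) (K' : IntermediateField K L) :
    IsDiscreteValuationRing ↥((algebraMap OL L).range ⊓ K'.toSubring) := by
  classical
  set O' := (algebraMap OL L).range ⊓ K'.toSubring
  have halg : Function.Injective (algebraMap OL L) := IsFractionRing.injective OL L
  have hex : ∀ x : O', ∃ a : OL, algebraMap OL L a = (x : L) := fun x => x.2.1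
  choose φ hφ using hex
  have φmul : ∀ x y : O', φ (x * y) = φ x * φ y := fun x y => halg (by rw [hφ, map_mul, hφ, hφ]; rfl)
  have φ0 : ∀ x : O', φ x = 0 ↔ x = 0 := fun x => by
    rw [← map_eq_zero_iff _ halg, hφ]
    exact ⟨fun h => Subtype.ext h, fun h => h ▸ rfl⟩
  have hdvd : ∀ x y : O', φ x ∣ φ y → x ∣ y := by
    rintro x y ⟨c, hc⟩
    by_cases hx : x = 0
    · subst hx
      rw [(φ0 0).2 rfl, zero_mul, φ0] at hc
      exact hc ▸ dvd_rfl
    have hxL : (x : L) ≠ 0 := fun h => hx (Subtype.ext h)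
    have hc' : algebraMap OL L c = (y : L) / (x : L) := by
      rw [eq_div_iff hxL, ← hφ, ← hφ, hc, map_mul]; ring
    refine ⟨⟨algebraMap OL L c, ⟨c, rfl⟩, ?_⟩, Subtype.ext ?_⟩
    · rw [hc']; exact K'.div_mem y.2.2 x.2.2
    · show (y : L) = (x : L) * algebraMap OL L c
      rw [hc', mul_div_cancel₀ _ hxL]
  have φ1 : φ 1 = 1 := halg (by rw [hφ, map_one]; rfl)
  have hunit : ∀ x : O', IsUnit (φ x) → IsUnit x := fun x hx =>
    isUnit_of_dvd_one (hdvd x 1 (by rw [φ1]; exact isUnit_iff_dvd_one.1 hx))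
  obtain ⟨ϖ, hϖ⟩ := IsDiscreteValuationRing.exists_irreducible OL
  have hexp : ∀ x : O', x ≠ 0 → ∃ m : ℕ, Associated (φ x) (ϖ ^ m) := fun x hx =>
    IsDiscreteValuationRing.associated_pow_irreducible (fun h => hx ((φ0 x).1 h)) hϖ
  obtain ⟨t, ht⟩ := IsDiscreteValuationRing.exists_irreducible OK
  let t' : O' := ⟨algebraMap OK L t,
    ⟨algebraMap OK OL t, (IsScalarTower.algebraMap_apply OK OL L t).symm⟩,
    by rw [IsScalarTower.algebraMap_apply OK K L]; exact K'.algebraMap_mem _⟩
  have hP : ∃ m : ℕ, 0 < m ∧ ∃ x : O', Associated (φ x) (ϖ ^ m) := by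
    have h1 : φ t' = algebraMap OK OL t := halg (by rw [hφ, ← IsScalarTower.algebraMap_apply])
    have h2 : t' ≠ 0 := fun h => ht.ne_zero (hinj (by rw [map_zero, ← h1]; exact (φ0 t').2 h))
    obtain ⟨m, hm⟩ := hexp t' h2
    refine ⟨m, Nat.pos_of_ne_zero fun h0 => ht.not_isUnit (hloc.map_nonunit t ?_), t', hm⟩
    rw [← h1]
    subst h0
    rw [pow_zero] at hm
    exact associated_one_iff_isUnit.1 hm
  obtain ⟨hn0, ϖ', hp⟩ := Nat.find_spec hP
  set n0 := Nat.find hP
  have hmin : ∀ (x : O') (m : ℕ), Associated (φ x) (ϖ ^ m) → m < n0 → IsUnit x := fun x m hm hlt => by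
    refine hunit x ?_
    rcases Nat.eq_zero_or_pos m with h | h
    · subst h; rw [pow_zero] at hm; exact associated_one_iff_isUnit.1 hm
    · exact absurd ⟨h, x, hm⟩ (Nat.find_min hP hlt)
  have hp0 : ϖ' ≠ 0 := fun h => by
    rw [h, (φ0 0).2 rfl] at hp
    exact pow_ne_zero _ hϖ.ne_zero (hp.eq_zero_iff.1 rfl)
  have φpow : ∀ q : ℕ, φ (ϖ' ^ q) = φ ϖ' ^ q := fun q => by
    induction q with
    | zero => rw [pow_zero, pow_zero, φ1]
    | succ q ih => rw [pow_succ, pow_succ, φmul, ih]
  refine IsDiscreteValuationRing.ofHasUnitMulPowIrreducibleFactorization ⟨ϖ', ⟨fun h => ?_, fun a b hab => ?_⟩,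
    fun {x} hx => ?_⟩
  · obtain ⟨y, hy⟩ := h.exists_right_inv
    have h1 : IsUnit (φ ϖ') := IsUnit.of_mul_eq_one (φ y) (by rw [← φmul, hy, φ1])
    have h2 := hp.isUnit h1
    exact hϖ.not_isUnit ((isUnit_pow_iff hn0.ne').1 h2)
  · have ha : a ≠ 0 := fun h => hp0 (by rw [hab, h, zero_mul])
    have hb : b ≠ 0 := fun h => hp0 (by rw [hab, h, mul_zero])
    obtain ⟨ma, hma⟩ := hexp a ha
    obtain ⟨mb, hmb⟩ := hexp b hb
    have h1 : Associated (ϖ ^ n0) (ϖ ^ (ma + mb)) := by
      refine hp.symm.trans ?_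
      rw [hab, φmul, pow_add]
      exact hma.mul_mul hmb
    have h2 : n0 = ma + mb := by
      exact le_antisymm ((pow_dvd_pow_iff hϖ.ne_zero hϖ.not_isUnit).1 h1.dvd) ((pow_dvd_pow_iff hϖ.ne_zero hϖ.not_isUnit).1 h1.dvd')
    rcases Nat.eq_zero_or_pos ma with h | h
    · exact Or.inl (hmin a ma hma (by omega))
    · exact Or.inr (hmin b mb hmb (by omega))
  · obtain ⟨m, hm⟩ := hexp x hx
    refine ⟨m / n0, ?_⟩
    have h1 : φ (ϖ' ^ (m / n0)) ∣ φ x := by
      rw [φpow]
      refine (hp.pow_pow.dvd.trans ?_).trans hm.dvd'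
      rw [← pow_mul]
      exact pow_dvd_pow _ (Nat.mul_div_le m n0)
    obtain ⟨z, hz⟩ := hdvd _ _ h1
    have hz0 : z ≠ 0 := fun h => hx (by rw [hz, h, mul_zero])
    obtain ⟨r, hr⟩ := hexp z hz0
    have h2 : Associated (ϖ ^ m) (ϖ ^ (n0 * (m / n0) + r)) := by
      refine hm.symm.trans ?_
      rw [hz, φmul, φpow, pow_add, pow_mul]
      exact hp.pow_pow.mul_mul hr
    have h3 : n0 * (m / n0) + r ≤ m := (pow_dvd_pow_iff hϖ.ne_zero hϖ.not_isUnit).1 h2.dvd'
    have h4 := Nat.div_add_mod m n0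
    have h5 := Nat.mod_lt m hn0
    exact ⟨(hmin z r hr (by omega)).unit, hz.symm⟩

end Groth.Agent.ProjDesc28
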